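/-
# Simple `SN` groups have even order
-/
import Mathlib
import Cfsg.Agent.Lib.SelfNorm.Quot
import Cfsg.Agent.Lib.TICent.Final
import Cfsg.Agent.S4064
import Cfsg.Agent.S0035

set_option autoImplicit false
set_option linter.style.haveILetI false

open Subgroup
open scoped Pointwise

namespace Cfsg.Agent.Lib.SelfNorm

universe u

/-- `SL₂` of a field of characteristic two has even order. -/
theorem even_card_sl {F : Type*} [Field F] [Finite F] (h2 : (2 : F) = 0) :
    Even (Nat.card (Matrix.SpecialLinearGroup (Fin 2) F)) := by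
  classical
  haveI : Fintype F := Fintype.ofFinite F
  let u : Matrix.SpecialLinearGroup (Fin 2) F := ⟨!![1, 1; 0, 1], by simp [Matrix.det_fin_two_of]⟩
  have hu1 : u ≠ 1 := by
    intro h
    have := congrArg (fun g : Matrix.SpecialLinearGroup (Fin 2) F => g.1 0 1) h
    simp [u] at this
  have huu : u * u = 1 := by
    have h11 : (1 : F) + 1 = 0 := by rw [one_add_one_eq_two, h2]
    apply Subtype.ext
    show (!![1, 1; 0, 1] * !![1, 1; 0, 1] : Matrix (Fin 2) (Fin 2) F) = 1
    ext i j
    fin_cases i <;> fin_cases j <;> simp [Matrix.mul_apply, Fin.sum_univ_two, h11]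
  have ho : orderOf u = 2 := by
    apply orderOf_eq_prime
    · rw [pow_two, huu]
    · exact hu1
  have h := orderOf_dvd_natCard u
  rw [ho] at h
  exact even_iff_two_dvd.2 h

variable {G : Type u} [Group G] [Finite G]

/-- Centralizers of nontrivial elements are abelian if those of elements of prime order are. -/
theorem cent_abelian_of_ne_one
    (h : ∀ x : G, x ≠ 1 → ∀ p : ℕ, p.Prime → orderOf x = p →
      ∀ a ∈ centralizer ({x} : Set G), ∀ b ∈ centralizer ({x} : Set G), a * b = b * a)
    {y : G} (hy : y ≠ 1) :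
    ∀ a ∈ centralizer ({y} : Set G), ∀ b ∈ centralizer ({y} : Set G), a * b = b * a := by
  intro a ha b hb
  have hoy : orderOf y ≠ 1 := fun h => hy (orderOf_eq_one_iff.1 h)
  have hoy0 : orderOf y ≠ 0 := (orderOf_pos y).ne'
  set p := (orderOf y).minFac with hp
  have hpp : p.Prime := Nat.minFac_prime hoy
  have hpd : p ∣ orderOf y := Nat.minFac_dvd _
  have hxo : orderOf (y ^ (orderOf y / p)) = p := orderOf_pow_orderOf_div hoy0 hpd
  have hx1 : y ^ (orderOf y / p) ≠ 1 := by
    intro h1
    rw [h1, orderOf_one] at hxo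
    exact hpp.one_lt.ne hxo
  have hle : ∀ c ∈ centralizer ({y} : Set G), c ∈ centralizer ({y ^ (orderOf y / p)} : Set G) := by
    intro c hc
    have h1 : Commute c y := mem_C.1 hc
    exact mem_C.2 (h1.pow_right _).eq
  exact h _ hx1 p hpp hxo a (hle a ha) b (hle b hb)

/-- All centralizers are TI when they are abelian. -/
theorem ti_of_cent_abelian
    (h : ∀ y : G, y ≠ 1 → ∀ a ∈ centralizer ({y} : Set G), ∀ b ∈ centralizer ({y} : Set G),
      a * b = b * a) (x : G) :
    Cfsg.IsTISubset (centralizer ({x} : Set G) : Set G) := by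
  intro g hg z hz hgz
  by_contra hz1
  apply hg
  have hx1 : x ≠ 1 := by
    rintro rfl
    have : centralizer ({(1 : G)} : Set G) = ⊤ := by
      rw [eq_top_iff]
      intro c _
      exact mem_C.2 (by simp)
    have h2 : normalizer ((⊤ : Subgroup G) : Set G) = ⊤ := normalizer_eq_top _
    rw [this, h2] at hg
    exact hg trivial
  have key : ∀ w : G, w ≠ 1 → w ∈ centralizer ({x} : Set G) →
      ∀ c, c ∈ centralizer ({x} : Set G) ↔ c ∈ centralizer ({w} : Set G) := by
    intro w hw hwx c
    have hxw : x ∈ centralizer ({w} : Set G) := mem_C.2 (mem_C.1 hwx).symm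
    constructor
    · intro hc
      exact mem_C.2 (h x hx1 c hc w hwx)
    · intro hc
      exact mem_C.2 (h w hw c hc x hxw)
  have hgz1 : g * z * g⁻¹ ≠ 1 := by
    intro h1
    apply hz1
    have : z = g⁻¹ * (g * z * g⁻¹) * g := by group
    rw [this, h1]
    group
  apply Cfsg.Agent.Lib.CyclicSylow.mem_normalizer_of_conj_mem
  intro c hc
  have h1 : c ∈ centralizer ({z} : Set G) := (key z hz1 hz c).1 hc
  have h2 : g * c * g⁻¹ ∈ centralizer ({g * z * g⁻¹} : Set G) := by
    have := mem_C.1 h1
    apply mem_C.2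
    calc g * c * g⁻¹ * (g * z * g⁻¹) = g * (c * z) * g⁻¹ := by group
      _ = g * (z * c) * g⁻¹ := by rw [this]
      _ = _ := by group
  exact (key _ hgz1 hgz _).2 h2

/-- **Simple `SN` groups have even order.** -/
theorem even_of_SN_aux (n : ℕ) : ∀ (G : Type u) [Group G] [Finite G] [IsSimpleGroup G],
    Nat.card G = n → SN G → ¬ IsMulCommutative G → Even (Nat.card G) := by
  induction n using Nat.strong_induction_on with
  | _ n ih =>
    intro G _ _ _ hn hS hna
    by_contra hodd
    rw [Nat.not_even_iff_odd] at hodd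
    have hQ : ∀ (Q : Type u) [Group Q] [Finite Q] [IsSimpleGroup Q], Nat.card Q < Nat.card G →
        SN Q → ¬ IsMulCommutative Q → Even (Nat.card Q) := by
      intro Q _ _ _ hlt hSQ hnaQ
      exact ih (Nat.card Q) (by rw [← hn]; exact hlt) Q rfl hSQ hnaQ
    have hC : ∀ y : G, y ≠ 1 → ∀ a ∈ centralizer ({y} : Set G),
        ∀ b ∈ centralizer ({y} : Set G), a * b = b * a := by
      intro y hy
      apply cent_abelian_of_ne_one _ hy
      intro x _ p hpp hxo
      haveI : Fact p.Prime := ⟨hpp⟩
      exact cent_abelian hna hS hxo (Or.inr hodd) hQ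
    rcases Cfsg.Agent.S4064.result (G := G) (ti_of_cent_abelian hC) with hnil | ⟨H, hH, _⟩ | ⟨m, hm, ⟨e⟩⟩
    · -- nilpotent
      haveI : Nontrivial G := IsSimpleGroup.toNontrivial
      haveI := hnil
      have hc : center G ≠ ⊥ := Group.IsNilpotent.center_ne_bot G
      have hn' : (center G).Normal := inferInstance
      rcases hn'.eq_bot_or_eq_top with h | h
      · exact hc h
      · apply hna
        refine ⟨⟨fun a b => ?_⟩⟩
        have : a ∈ center G := by rw [h]; trivial
        exact (mem_center_iff.1 this b).symm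
    · -- Frobenius
      obtain ⟨N, _, hN, hcomp⟩ := Cfsg.Agent.S0035.result H hH
      have hcard := hcomp.card_mul_card
      rcases hN.eq_bot_or_eq_top with h | h
      · rw [h] at hcard
        simp only [card_bot, one_mul] at hcard
        exact hH.2.1 (eq_top_of_card_eq _ hcard)
      · rw [h] at hcard
        simp only [card_top] at hcard
        have hcpos : 0 < Nat.card G := Nat.card_pos
        have h1 : Nat.card H = 1 := by
          nlinarith [Nat.card_pos (α := H)]
        exact hH.1 ((Subgroup.eq_bot_iff_card _).2 h1)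
    · -- `PSL₂(2^m)`
      have h20 : (2 : GaloisField 2 m) = 0 := by
        exact_mod_cast CharP.cast_eq_zero (GaloisField 2 m) 2
      obtain ⟨e₂⟩ := Cfsg.Agent.Lib.TICent.Invol.sl_equiv_psl h20
      have h1 := even_card_sl h20
      rw [Nat.card_congr (e.trans e₂.symm).toEquiv] at hodd
      rw [← Nat.not_even_iff_odd] at hodd
      exact hodd h1

theorem even_of_SN [IsSimpleGroup G] (hS : SN G) (hna : ¬ IsMulCommutative G) :
    Even (Nat.card G) :=
  even_of_SN_aux _ G rfl hS hna

end Cfsg.Agent.Lib.SelfNorm
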