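/-
# `SL₂(F)` in characteristic two: the two matrix facts needed for the self-normalizing theorem
-/
import Mathlib
import Cfsg.Agent.Lib.SelfNorm.Even
import Cfsg.Agent.S2202
import Cfsg.Agent.Lib.Classical.SLBasic

set_option autoImplicit false
set_option linter.style.haveILetI false

open Subgroup
open scoped Pointwise

namespace Cfsg.Agent.Lib.SelfNorm

universe u

section SL

variable {F : Type*} [Field F]

local notation "SL₂" => Matrix.SpecialLinearGroup (Fin 2) F

theorem entry_mul (A B : SL₂) (i j : Fin 2) :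
    (A * B).1 i j = A.1 i 0 * B.1 0 j + A.1 i 1 * B.1 1 j := by
  simp [Matrix.SpecialLinearGroup.coe_mul, Matrix.mul_apply, Fin.sum_univ_two]

theorem det_eq (A : SL₂) : A.1 0 0 * A.1 1 1 - A.1 0 1 * A.1 1 0 = 1 := by
  have := A.2
  rwa [Matrix.det_fin_two] at this

theorem sl_ext {A B : SL₂} (h00 : A.1 0 0 = B.1 0 0) (h01 : A.1 0 1 = B.1 0 1)
    (h10 : A.1 1 0 = B.1 1 0) (h11 : A.1 1 1 = B.1 1 1) : A = B := by
  apply Subtype.ext
  ext i j
  fin_cases i <;> fin_cases j <;> assumption

/-- **Centralizers of involutions have exponent two.** -/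
theorem sl_F1 (h2 : (2 : F) = 0) {t g : SL₂} (ht : t ≠ 1) (htt : t * t = 1) (hc : g * t = t * g) :
    g * g = 1 := by
  have e00 := entry_mul t t 0 0
  have e01 := entry_mul t t 0 1
  have e10 := entry_mul t t 1 0
  have e11 := entry_mul t t 1 1
  rw [htt] at e00 e01 e10 e11
  simp only [Matrix.SpecialLinearGroup.coe_one, Matrix.one_apply_eq, ne_eq, zero_ne_one,
    one_ne_zero, not_false_eq_true, Matrix.one_apply_ne] at e00 e01 e10 e11
  have c01 := entry_mul g t 0 1
  have c10 := entry_mul g t 1 0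
  have c01' := entry_mul t g 0 1
  have c10' := entry_mul t g 1 0
  rw [hc] at c01 c10
  rw [c01'] at c01
  rw [c10'] at c10
  have dg := det_eq g
  set a := t.1 0 0
  set b := t.1 0 1
  set c := t.1 1 0
  set d := t.1 1 1
  set e := g.1 0 0
  set f := g.1 0 1
  set h := g.1 1 0
  set k := g.1 1 1
  have had : a = d := by
    have h1 : (a - d) ^ 2 = 0 := by
      linear_combination -e00 + e11 + (d ^ 2 - a * d) * h2
    have := pow_eq_zero_iff (two_ne_zero) |>.1 h1
    linear_combination this
  have hbc : b ≠ 0 ∨ c ≠ 0 := by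
    by_contra hcon
    push Not at hcon
    obtain ⟨hb, hc'⟩ := hcon
    have ha1 : a = 1 := by
      have h1 : (a - 1) ^ 2 = 0 := by
        rw [hb] at e00
        linear_combination -e00 + (1 - a) * h2
      have := pow_eq_zero_iff (two_ne_zero) |>.1 h1
      linear_combination this
    apply ht
    apply sl_ext
    · show a = _
      rw [ha1]; simp
    · show b = _
      rw [hb]; simp
    · show c = _
      rw [hc']; simp
    · show d = _
      rw [← had, ha1]; simp
  have hek : e = k := by
    rcases hbc with hb | hc'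
    · have h1 : b * (e - k) = 0 := by
        rw [had] at c01
        linear_combination -c01
      have h3 := (mul_eq_zero.1 h1).resolve_left hb
      linear_combination h3
    · have h1 : c * (e - k) = 0 := by
        rw [had] at c10
        linear_combination c10
      have h3 := (mul_eq_zero.1 h1).resolve_left hc'
      linear_combination h3
  apply sl_ext
  · rw [entry_mul]
    simp only [Matrix.SpecialLinearGroup.coe_one, Matrix.one_apply_eq]
    show e * e + f * h = 1
    rw [hek] at dg ⊢
    linear_combination dg + f * h * h2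
  · rw [entry_mul]
    simp only [Matrix.SpecialLinearGroup.coe_one, ne_eq, zero_ne_one, not_false_eq_true,
      Matrix.one_apply_ne]
    show e * f + f * k = 0
    rw [← hek]
    linear_combination e * f * h2
  · rw [entry_mul]
    simp only [Matrix.SpecialLinearGroup.coe_one, ne_eq, one_ne_zero, not_false_eq_true,
      Matrix.one_apply_ne]
    show h * e + k * h = 0
    rw [← hek]
    linear_combination e * h * h2
  · rw [entry_mul]
    simp only [Matrix.SpecialLinearGroup.coe_one, Matrix.one_apply_eq]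
    show h * f + k * k = 1
    rw [← hek] at dg ⊢
    linear_combination dg + f * h * h2

/-- Conjugation by an upper triangular matrix on the upper triangular matrices. -/
theorem conj_upper {b g : SL₂} (hb : b.1 1 0 = 0) (hg : g.1 1 0 = 0) :
    (b * g * b⁻¹).1 1 0 = 0 ∧ (b * g * b⁻¹).1 0 0 = g.1 0 0 := by
  have hdet := det_eq b
  rw [hb] at hdet
  have hb0 : b.1 0 0 ≠ 0 := by
    intro h
    rw [h] at hdet
    simp at hdet
  have hrel : (b * g * b⁻¹) * b = b * g := by group
  have e1 := entry_mul (b * g * b⁻¹) b 1 0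
  have e2 := entry_mul (b * g * b⁻¹) b 0 0
  have e3 := entry_mul b g 1 0
  have e4 := entry_mul b g 0 0
  rw [hrel] at e1 e2
  rw [e3] at e1
  rw [e4] at e2
  rw [hb, hg] at e1
  rw [hb, hg] at e2
  constructor
  · have h1 : (b * g * b⁻¹).1 1 0 * b.1 0 0 = 0 := by
      linear_combination -e1
    exact (mul_eq_zero.1 h1).resolve_right hb0
  · have h1 : ((b * g * b⁻¹).1 0 0 - g.1 0 0) * b.1 0 0 = 0 := by
      linear_combination -e2
    have := (mul_eq_zero.1 h1).resolve_right hb0
    linear_combination this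

/-- The subgroup of upper triangular matrices with `d`-torsion upper left entry. -/
def upperTors (d : ℕ) : Subgroup SL₂ where
  carrier := {g | g.1 1 0 = 0 ∧ (g.1 0 0) ^ d = 1}
  mul_mem' := by
    rintro g g' ⟨h1, h2⟩ ⟨h1', h2'⟩
    constructor
    · show (g * g').1 1 0 = 0
      rw [entry_mul, h1, h1']; simp
    · show ((g * g').1 0 0) ^ d = 1
      rw [entry_mul, h1']
      simp only [mul_zero, add_zero]
      rw [mul_pow, h2, h2', one_mul]
  one_mem' := by
    constructor
    · simp
    · simp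
  inv_mem' := by
    rintro g ⟨h1, h2⟩
    have hdet := det_eq g
    rw [h1] at hdet
    simp only [mul_zero, sub_zero] at hdet
    constructor
    · show (g⁻¹).1 1 0 = 0
      rw [Matrix.SpecialLinearGroup.SL2_inv_expl]
      simp [h1]
    · show ((g⁻¹).1 0 0) ^ d = 1
      rw [Matrix.SpecialLinearGroup.SL2_inv_expl]
      simp only [Matrix.of_apply, Matrix.cons_val', Matrix.cons_val_zero, Matrix.cons_val_fin_one]
      have h3 : (g.1 0 0 * g.1 1 1) ^ d = 1 := by rw [hdet, one_pow]
      rw [mul_pow, h2, one_mul] at h3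
      exact h3

theorem mem_upperTors {d : ℕ} {g : SL₂} : g ∈ upperTors d ↔ g.1 1 0 = 0 ∧ (g.1 0 0) ^ d = 1 :=
  Iff.rfl

/-- The order of the multiplicative group is prime under `SN`. -/
theorem prime_of_SN_sl [Fintype F] (h2 : (2 : F) = 0) (hS : SN SL₂) (h3 : 3 ≤ Fintype.card F) :
    (Fintype.card F - 1).Prime := by
  classical
  by_contra hnp
  have hq1 : Fintype.card F - 1 ≠ 1 := by omega
  obtain ⟨ζ, hζ⟩ := IsCyclic.exists_generator (α := Fˣ)
  have hζo : orderOf ζ = Fintype.card F - 1 := by
    rw [orderOf_eq_card_of_forall_mem_zpowers hζ, Nat.card_eq_fintype_card, Fintype.card_units]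
  set q1 := Fintype.card F - 1 with hq1def
  set d := q1.minFac with hd
  have hdp : d.Prime := Nat.minFac_prime hq1
  have hdd : d ∣ q1 := Nat.minFac_dvd _
  have hq1pos : q1 ≠ 0 := by omega
  have hdne : d ≠ q1 := by
    intro h
    apply hnp
    rw [← h]
    exact hdp
  have hdlt : d < q1 := lt_of_le_of_ne (Nat.le_of_dvd (Nat.pos_of_ne_zero hq1pos) hdd) hdne
  set a : Fˣ := ζ ^ (q1 / d) with ha
  have hao : orderOf a = d := by
    rw [ha, ← hζo]
    rw [hζo]
    have := orderOf_pow_orderOf_div (x := ζ) (n := d) (by rw [hζo]; exact hq1pos) (by rw [hζo]; exact hdd)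
    rwa [hζo] at this
  have had : (a : F) ^ d = 1 := by
    rw [← Units.val_pow_eq_pow_val, ← hao, pow_orderOf_eq_one, Units.val_one]
  have ha1 : (a : F) ≠ 1 := by
    intro h
    have : a = 1 := Units.ext h
    rw [this, orderOf_one] at hao
    exact hdp.one_lt.ne hao
  let u : SL₂ := ⟨!![1, 1; 0, 1], by simp [Matrix.det_fin_two_of]⟩
  let v : SL₂ := ⟨!![(a : F), 0; 0, ((a⁻¹ : Fˣ) : F)], by simp [Matrix.det_fin_two_of]⟩
  let w : SL₂ := ⟨!![(ζ : F), 0; 0, ((ζ⁻¹ : Fˣ) : F)], by simp [Matrix.det_fin_two_of]⟩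
  have huH : u ∈ upperTors d := by
    constructor
    · show (!![1, 1; 0, 1] : Matrix (Fin 2) (Fin 2) F) 1 0 = 0
      simp
    · show ((!![1, 1; 0, 1] : Matrix (Fin 2) (Fin 2) F) 0 0) ^ d = 1
      simp
  have hvH : v ∈ upperTors d := by
    constructor
    · show (!![(a : F), 0; 0, ((a⁻¹ : Fˣ) : F)] : Matrix (Fin 2) (Fin 2) F) 1 0 = 0
      simp
    · show ((!![(a : F), 0; 0, ((a⁻¹ : Fˣ) : F)] : Matrix (Fin 2) (Fin 2) F) 0 0) ^ d = 1
      simpa using had
  have huv : u * v ≠ v * u := by
    intro h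
    have h1 := entry_mul u v 0 1
    have h4 := entry_mul v u 0 1
    rw [h, h4] at h1
    have hu00 : u.1 0 0 = 1 := by simp [u]
    have hu01 : u.1 0 1 = 1 := by simp [u]
    have hu11 : u.1 1 1 = 1 := by simp [u]
    have hv00 : v.1 0 0 = a := by simp [v]
    have hv01 : v.1 0 1 = 0 := by simp [v]
    have hv11 : v.1 1 1 = ((a⁻¹ : Fˣ) : F) := by simp [v]
    rw [hu00, hu01, hu11, hv00, hv01, hv11] at h1
    have h5 : (a : F) * ((a⁻¹ : Fˣ) : F) = 1 := by
      rw [← Units.val_mul, mul_inv_cancel, Units.val_one]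
    have h6 : ((a : F) - 1) ^ 2 = 0 := by
      have h7 : (a : F) = ((a⁻¹ : Fˣ) : F) := by
        linear_combination h1
      have h8 : (a : F) * a = 1 := by
        nth_rewrite 2 [h7]
        exact h5
      linear_combination h8 - ((a : F) - 1) * h2
    have := pow_eq_zero_iff (two_ne_zero) |>.1 h6
    exact ha1 (by linear_combination this)
  have hwN : w ∈ normalizer ((upperTors d : Subgroup SL₂) : Set SL₂) := by
    apply Cfsg.Agent.Lib.CyclicSylow.mem_normalizer_of_conj_mem
    rintro g ⟨hg1, hg2⟩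
    have hw10 : w.1 1 0 = 0 := by simp [w]
    obtain ⟨h4, h5⟩ := conj_upper hw10 hg1
    refine ⟨h4, ?_⟩
    rw [h5]
    exact hg2
  have hwH : w ∈ upperTors d := hS _ ⟨u, huH, v, hvH, huv⟩ w hwN
  have h6 : ((ζ : F)) ^ d = 1 := by
    have h7 := hwH.2
    have h8 : w.1 0 0 = ζ := by simp [w]
    rwa [h8] at h7
  have h9 : ζ ^ d = 1 := by
    apply Units.ext
    simpa using h6
  exact pow_ne_one_of_lt_orderOf hdp.ne_zero (by rw [hζo]; exact hdlt) h9

/-- Order of `SL₂`. -/
theorem card_sl_two_eq [Fintype F] :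
    Nat.card SL₂ = Fintype.card F * (Fintype.card F ^ 2 - 1) := by
  have h1 := Cfsg.Agent.Lib.Classical.SLBasic.card_gl_eq_mul_card_sl (ι := Fin 2) (F := F)
  rw [Matrix.card_GL_field] at h1
  simp only [Fin.prod_univ_two, Fin.val_zero, Fin.val_one, pow_zero, pow_one] at h1
  have hq : 2 ≤ Fintype.card F := Fintype.one_lt_card
  obtain ⟨q, hq'⟩ : ∃ q, Fintype.card F = q + 2 := ⟨Fintype.card F - 2, by omega⟩
  rw [hq'] at h1 ⊢
  have h2 : (q + 2) - 1 = q + 1 := by omega
  rw [h2] at h1
  have h3 : (q + 2) ^ 2 - (q + 2) = (q + 1) * (q + 2) := by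
    apply Nat.sub_eq_of_eq_add
    ring
  rw [h3] at h1
  have h4 : q + 1 ≠ 0 := by omega
  apply Nat.eq_of_mul_eq_mul_left (Nat.pos_of_ne_zero h4)
  rw [← h1]
  ring

end SL

variable {G : Type u} [Group G] [Finite G] 

/-- **The forward direction.** -/
theorem forward [IsSimpleGroup G] (hna : ¬ IsMulCommutative G) (hS : SN G) :
    ∃ n : ℕ, 2 ≤ n ∧ (2 ^ n - 1).Prime ∧
      Nonempty (G ≃* Matrix.ProjectiveSpecialLinearGroup (Fin 2) (GaloisField 2 n)) := by
  classical
  haveI hf2 : Fact (Nat.Prime 2) := ⟨Nat.prime_two⟩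
  have heven := even_of_SN hS hna
  have hQ : ∀ (Q : Type u) [Group Q] [Finite Q] [IsSimpleGroup Q], Nat.card Q < Nat.card G →
      SN Q → ¬ IsMulCommutative Q → Even (Nat.card Q) :=
    fun Q _ _ _ _ hSQ hnaQ => even_of_SN hSQ hnaQ
  have hcomm : ∀ t : G, orderOf t = 2 → IsMulCommutative ↥(centralizer ({t} : Set G)) := by
    intro t ht
    have := cent_abelian hna hS ht (Or.inl rfl) hQ
    exact ⟨⟨fun a b => Subtype.ext (this a a.2 b b.2)⟩⟩
  have h2 := even_iff_two_dvd.1 heven
  rcases Cfsg.Agent.S2202.result heven hcomm with hc | hn | ⟨F, _, _, A, _, _, hchar, hodd, ⟨e⟩⟩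
  · exact (not_cyclic_sylow_two hna h2 default (hc default)).elim
  · exfalso
    let P : Sylow 2 G := default
    have hPne : (P : Subgroup G) ≠ ⊥ := P.ne_bot_of_dvd_card h2
    have hPt : (P : Subgroup G) = ⊤ := (hn P).eq_bot_or_eq_top.resolve_left hPne
    apply not_isPGroup_of_simple hna (p := 2)
    intro g
    obtain ⟨k, hk⟩ := P.isPGroup' ⟨g, by rw [hPt]; trivial⟩
    exact ⟨k, by simpa using congrArg Subtype.val hk⟩
  · haveI := hchar
    have h20 : (2 : F) = 0 := by exact_mod_cast CharP.cast_eq_zero F 2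
    -- `A` is trivial
    let f : G →* A := (MonoidHom.snd _ _).comp e.toMonoidHom
    have hker : f.ker = ⊤ := by
      rcases (MonoidHom.normal_ker f).eq_bot_or_eq_top with h | h
      · exfalso
        apply hna
        refine ⟨⟨fun a b => ?_⟩⟩
        have hinj : Function.Injective f := (MonoidHom.ker_eq_bot_iff f).1 h
        apply hinj
        rw [map_mul, map_mul, mul_comm]
      · exact h
    have hf1 : ∀ g, (e g).2 = 1 := by
      intro g
      have : g ∈ f.ker := by rw [hker]; trivial
      exact this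
    let e₁ : G ≃* Matrix.SpecialLinearGroup (Fin 2) F :=
      MulEquiv.ofBijective ((MonoidHom.fst _ _).comp e.toMonoidHom) (by
        constructor
        · intro a b hab
          apply e.injective
          apply Prod.ext
          · exact hab
          · rw [hf1, hf1]
        · intro m
          refine ⟨e.symm (m, 1), ?_⟩
          simp)
    have hSs : SN (Matrix.SpecialLinearGroup (Fin 2) F) := hS.of_equiv e₁.symm
    obtain ⟨n, _, hn⟩ := FiniteField.card F 2
    have hn0 : (n : ℕ) ≠ 0 := n.ne_zero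
    have hn1 : (n : ℕ) ≠ 1 := by
      intro h1
      rw [h1, pow_one] at hn
      have hcardG : Nat.card G = 6 := by
        rw [Nat.card_congr e₁.toEquiv, card_sl_two_eq, hn]
        norm_num
      let P : Sylow 2 G := default
      apply not_cyclic_sylow_two hna h2 P
      obtain ⟨k, hk⟩ := IsPGroup.iff_card.1 P.isPGroup'
      have hd : 2 ^ k ∣ 6 := by
        rw [← hk, ← hcardG]
        exact Subgroup.card_subgroup_dvd_card _
      have hk1 : k ≤ 1 := by
        by_contra hk2
        have h4 : 2 ^ 2 ∣ 2 ^ k := pow_dvd_pow 2 (by omega)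
        have := h4.trans hd
        norm_num at this
      interval_cases k
      · haveI : Subsingleton (P : Subgroup G) :=
          (Nat.card_eq_one_iff_unique.1 (by simpa using hk)).1
        exact isCyclic_of_subsingleton
      · exact isCyclic_of_prime_card (p := 2) (by simpa using hk)
    have hn2 : 2 ≤ (n : ℕ) := by omega
    have h4 : 4 ≤ Fintype.card F := by
      rw [hn]
      calc 4 = 2 ^ 2 := by norm_num
        _ ≤ 2 ^ (n : ℕ) := Nat.pow_le_pow_right (by norm_num) hn2
    have hpr := prime_of_SN_sl h20 hSs (by omega)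
    rw [hn] at hpr
    refine ⟨n, hn2, hpr, ?_⟩
    letI : Fintype (GaloisField 2 (n : ℕ)) := Fintype.ofFinite _
    have hcardgf : Fintype.card (GaloisField 2 (n : ℕ)) = 2 ^ (n : ℕ) := by
      rw [← Nat.card_eq_fintype_card]
      exact GaloisField.card 2 n hn0
    let φ : F ≃+* GaloisField 2 (n : ℕ) := FiniteField.ringEquivOfCardEq (by rw [hn, hcardgf])
    have h20' : (2 : GaloisField 2 (n : ℕ)) = 0 := by
      exact_mod_cast CharP.cast_eq_zero (GaloisField 2 (n : ℕ)) 2
    obtain ⟨e₂⟩ := Cfsg.Agent.Lib.TICent.Invol.sl_equiv_psl h20'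
    exact ⟨e₁.trans ((Cfsg.Agent.Lib.TICent.Invol.slCongr φ).trans e₂)⟩

end Cfsg.Agent.Lib.SelfNorm
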