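/-
# `PSL₂(2ⁿ)` with `2ⁿ - 1` prime has the property `SN`
-/
import Mathlib
import Cfsg.Agent.Lib.SelfNorm.Sl
import Cfsg.Agent.S5893

set_option autoImplicit false
set_option linter.style.haveILetI false

open Subgroup
open scoped Pointwise

namespace Cfsg.Agent.Lib.SelfNorm

universe u

/-- Odd dihedral groups have `SN`. -/
theorem sn_dihedral {m : ℕ} (hm : Odd m) : SN (DihedralGroup m) := by
  classical
  haveI : NeZero m := ⟨by
    rintro rfl
    simp at hm⟩
  rintro H ⟨a, ha, b, hb, hab⟩ g hg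
  have hrefl : ∃ i, DihedralGroup.sr i ∈ H := by
    cases a with
    | r i =>
      cases b with
      | r j =>
        exfalso
        apply hab
        simp [DihedralGroup.r_mul_r, add_comm]
      | sr j => exact ⟨j, hb⟩
    | sr i => exact ⟨i, ha⟩
  obtain ⟨i, hi⟩ := hrefl
  have hrot : ∀ j, DihedralGroup.r j ∈ normalizer (H : Set (DihedralGroup m)) →
      (DihedralGroup.r j : DihedralGroup m) ∈ H := by
    intro j hj
    have h1 : DihedralGroup.r j * DihedralGroup.sr i * (DihedralGroup.r j)⁻¹ ∈ H :=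
      (mem_normalizer_iff.1 hj _).1 hi
    have h2 := H.mul_mem h1 hi
    have h3 : DihedralGroup.r j * DihedralGroup.sr i * (DihedralGroup.r j)⁻¹ * DihedralGroup.sr i
        = (DihedralGroup.r j) ^ 2 := by
      rw [pow_two, DihedralGroup.inv_r, DihedralGroup.r_mul_sr, DihedralGroup.sr_mul_r,
        DihedralGroup.sr_mul_sr, DihedralGroup.r_mul_r]
      congr 1
      ring
    rw [h3] at h2
    have ho : Odd (orderOf (DihedralGroup.r j : DihedralGroup m)) := by
      rw [DihedralGroup.orderOf_r]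
      exact Odd.of_dvd_nat hm (Nat.div_dvd_of_dvd (Nat.gcd_dvd_left _ _))
    obtain ⟨k, hk⟩ := ho
    have h4 : (DihedralGroup.r j : DihedralGroup m) =
        ((DihedralGroup.r j) ^ 2) ^ (k + 1) := by
      rw [← pow_mul]
      have h5 : 2 * (k + 1) = orderOf (DihedralGroup.r j : DihedralGroup m) + 1 := by
        rw [hk]; ring
      rw [h5, pow_succ, pow_orderOf_eq_one, one_mul]
    rw [h4]
    exact H.pow_mem h2 _
  cases g with
  | r j => exact hrot j hg
  | sr j =>
    have h1 : DihedralGroup.sr j * DihedralGroup.sr i ∈ normalizer (H : Set (DihedralGroup m)) :=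
      (normalizer (H : Set (DihedralGroup m))).mul_mem hg (le_normalizer hi)
    rw [DihedralGroup.sr_mul_sr] at h1
    have h2 := hrot _ h1
    have h3 : DihedralGroup.sr j = DihedralGroup.r (i - j) * (DihedralGroup.sr i : DihedralGroup m)⁻¹ := by
      rw [DihedralGroup.inv_sr, DihedralGroup.r_mul_sr]
      congr 1
      ring
    rw [h3]
    exact H.mul_mem h2 (H.inv_mem hi)

section Borel

variable {Γ : Type*} [Group Γ] [Finite Γ]

theorem two_group_facts (hF1 : ∀ t g : Γ, t ≠ 1 → t * t = 1 → g * t = t * g → g * g = 1)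
    {W : Subgroup Γ} (hW : IsPGroup 2 W) :
    (∀ s ∈ W, s * s = 1) ∧ ∀ a ∈ W, ∀ b ∈ W, a * b = b * a := by
  haveI : Fact (Nat.Prime 2) := ⟨Nat.prime_two⟩
  have h1 : ∀ s ∈ W, s * s = 1 := by
    intro s hs
    by_cases hb : W = ⊥
    · rw [hb] at hs
      rw [(mem_bot).1 hs, one_mul]
    · obtain ⟨z, _, hzo, hzc⟩ := exists_central_of_order hW hb
      have hz1 : z ≠ 1 := by
        rintro rfl
        rw [orderOf_one] at hzo
        omega
      have hzz : z * z = 1 := by
        rw [← pow_two, ← hzo, pow_orderOf_eq_one]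
      exact hF1 z s hz1 hzz (hzc s hs).symm
  refine ⟨h1, ?_⟩
  intro a ha b hb
  have h2 := h1 _ (W.mul_mem ha hb)
  have h3 := h1 a ha
  have h4 := h1 b hb
  calc a * b = a * b * (b * a * (b * a)) := by
        rw [h1 _ (W.mul_mem hb ha), mul_one]
    _ = a * (b * b) * a * (b * a) := by group
    _ = b * a := by
        rw [h4, mul_one, h3, one_mul]

/-- The case of a Borel subgroup. -/
theorem borel_contra (hF1 : ∀ t g : Γ, t ≠ 1 → t * t = 1 → g * t = t * g → g * g = 1)
    {H K : Subgroup Γ} (hHK : H < K) (hKN : K ≤ normalizer (H : Set Γ))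
    (hna : ∃ a ∈ H, ∃ b ∈ H, a * b ≠ b * a) {n r : ℕ} (hn : 2 ≤ n) (hr : r = 2 ^ n - 1)
    (hrp : r.Prime) (hcard : Nat.card K ∣ 2 ^ n * r) : False := by
  classical
  haveI hf2 : Fact (Nat.Prime 2) := ⟨Nat.prime_two⟩
  haveI hfr : Fact r.Prime := ⟨hrp⟩
  have hq4 : 4 ≤ 2 ^ n := by
    calc 4 = 2 ^ 2 := by norm_num
      _ ≤ 2 ^ n := Nat.pow_le_pow_right (by norm_num) hn
  have hqr : 2 ^ n = r + 1 := by omega
  have hr3 : 3 ≤ r := by omega
  have hrodd : Nat.Coprime r 2 := by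
    rw [Nat.coprime_comm, Nat.prime_two.coprime_iff_not_dvd]
    intro h
    have h2 : 2 ∣ 2 ^ n := dvd_pow_self 2 (by omega)
    rw [hqr] at h2
    omega
  have hrq : Nat.Coprime r (2 ^ n) := Nat.Coprime.pow_right n hrodd
  obtain ⟨hna1, hna2, hna3, hna4, hna5⟩ := hna
  -- `r` divides `|H|`
  have hHdK : Nat.card H ∣ Nat.card K := Subgroup.card_dvd_of_le hHK.le
  have hHd : Nat.card H ∣ 2 ^ n * r := hHdK.trans hcard
  have hrH : r ∣ Nat.card H := by
    by_contra hc
    have hco : Nat.Coprime (Nat.card H) r :=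
      ((Nat.Prime.coprime_iff_not_dvd hrp).2 hc).symm
    have h1 : Nat.card H ∣ 2 ^ n := hco.dvd_of_dvd_mul_right hHd
    obtain ⟨j, _, hj⟩ := (Nat.dvd_prime_pow Nat.prime_two).1 h1
    have hpg : IsPGroup 2 H := IsPGroup.of_card hj
    exact hna5 ((two_group_facts hF1 hpg).2 _ hna2 _ hna4)
  obtain ⟨m, hm⟩ := hrH
  have hmq : m ∣ 2 ^ n := by
    rw [hm, mul_comm (2 ^ n) r] at hHd
    exact Nat.dvd_of_mul_dvd_mul_left hrp.pos hHd
  obtain ⟨j, _, hj⟩ := (Nat.dvd_prime_pow Nat.prime_two).1 hmq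
  have hj0 : j ≠ 0 := by
    rintro rfl
    rw [pow_zero] at hj
    rw [hj, mul_one] at hm
    have hc : IsCyclic H := isCyclic_of_prime_card hm
    exact hna5 (Cfsg.Agent.Lib.CyclicSylow.Basic.comm_of_isCyclic hc hna2 hna4)
  have h2m : 2 ∣ m := by rw [hj]; exact dvd_pow_self 2 hj0
  obtain ⟨s, hs⟩ := hHdK
  have hlt : Nat.card H < Nat.card K := Cfsg.Agent.Lib.Transfer.Frobenius.card_lt_card_of_lt hHK
  have hs1 : 1 < s := by
    by_contra hc
    have hHpos : 0 < Nat.card H := Nat.card_pos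
    have : s = 0 ∨ s = 1 := by omega
    rcases this with rfl | rfl
    · rw [mul_zero] at hs
      have : 0 < Nat.card K := Nat.card_pos
      omega
    · rw [mul_one] at hs
      omega
  have hsq : s ∣ 2 ^ n := by
    have h1 : r * (m * s) ∣ r * 2 ^ n := by
      have h2 := hcard
      rw [hs, hm, mul_assoc, mul_comm (2 ^ n) r] at h2
      exact h2
    exact (dvd_mul_left s m).trans (Nat.dvd_of_mul_dvd_mul_left hrp.pos h1)
  obtain ⟨i, _, hi⟩ := (Nat.dvd_prime_pow Nat.prime_two).1 hsq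
  have hi0 : i ≠ 0 := by
    rintro rfl
    rw [pow_zero] at hi
    omega
  have h2s : 2 ∣ s := by rw [hi]; exact dvd_pow_self 2 hi0
  have h4K : 2 ^ 2 ∣ Nat.card K := by
    rw [hs, hm]
    obtain ⟨m', rfl⟩ := h2m
    obtain ⟨s', rfl⟩ := h2s
    exact ⟨r * m' * s', by ring⟩
  -- the Sylow `r`-subgroup of `H`
  let R : Sylow r H := default
  have hrR : r ∣ Nat.card (R : Subgroup H) := R.dvd_card_of_dvd_card ⟨m, hm⟩
  obtain ⟨a, ha⟩ := IsPGroup.iff_card.1 R.isPGroup'
  have hRd : Nat.card (R : Subgroup H) ∣ Nat.card H := Subgroup.card_subgroup_dvd_card _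
  have ha1 : a = 1 := by
    have ha0 : a ≠ 0 := by
      rintro rfl
      rw [ha, pow_zero] at hrR
      exact hrp.one_lt.ne' (Nat.dvd_one.1 hrR)
    by_contra hne
    have h1 : r ^ 2 ∣ r ^ a := pow_dvd_pow r (by omega)
    rw [← ha] at h1
    have h2 := h1.trans hRd
    rw [hm, hj, pow_two] at h2
    have h3 : r ∣ 2 ^ j := Nat.dvd_of_mul_dvd_mul_left hrp.pos h2
    have h4 : Nat.Coprime r (2 ^ j) := Nat.Coprime.pow_right j hrodd
    exact hrp.one_lt.ne' (h4.eq_one_of_dvd h3)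
  rw [ha1, pow_one] at ha
  have hidx : (R : Subgroup H).index = m := by
    have h1 := Subgroup.card_mul_index (R : Subgroup H)
    rw [ha, hm] at h1
    exact Nat.eq_of_mul_eq_mul_left hrp.pos h1
  have hnr : Nat.card (Sylow r H) = 1 := by
    have h1 := card_sylow_modEq_one r H
    have h2 : Nat.card (Sylow r H) ∣ m := by
      rw [← hidx]; exact Sylow.card_dvd_index R
    by_contra hne
    have hpos : 0 < Nat.card (Sylow r H) := Nat.card_pos
    have h3 : r ∣ Nat.card (Sylow r H) - 1 := (Nat.modEq_iff_dvd' (by omega)).1 h1.symm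
    have h4 : r ≤ Nat.card (Sylow r H) - 1 := Nat.le_of_dvd (by omega) h3
    have h5 : Nat.card (Sylow r H) ≤ m := Nat.le_of_dvd (by
      rw [hj]; positivity) h2
    have h6 : m ≤ 2 ^ n := Nat.le_of_dvd (by positivity) hmq
    have hmeq : m = 2 ^ n := by omega
    have h7 : Nat.card K ≤ 2 ^ n * r := Nat.le_of_dvd (by positivity) hcard
    rw [hs, hm, hmeq] at h7
    have hX : 0 < r * 2 ^ n := Nat.mul_pos hrp.pos (by positivity)
    have h8 : r * 2 ^ n * 2 ≤ r * 2 ^ n * s := Nat.mul_le_mul_left _ hs1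
    have h9 : 2 ^ n * r = r * 2 ^ n := mul_comm _ _
    linarith
  haveI hsub : Subsingleton (Sylow r H) := (Nat.card_eq_one_iff_unique.1 hnr).1
  -- a generator
  obtain ⟨c', hc'⟩ := exists_prime_orderOf_dvd_card' r (G := H) ⟨m, hm⟩
  set c : Γ := (c' : Γ) with hcdef
  have hco : orderOf c = r := by
    rw [← hc']
    exact Subgroup.orderOf_coe c'
  have hcH : c ∈ H := c'.2
  have hcpow : c ^ r = 1 := by rw [← hco]; exact pow_orderOf_eq_one c
  have hc1 : c ≠ 1 := by
    intro h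
    rw [h, orderOf_one] at hco
    omega
  have hRc : IsCyclic (R : Subgroup H) := isCyclic_of_prime_card ha
  have hinR : ∀ z : H, z ^ r = 1 → z ∈ (R : Subgroup H) := by
    intro z hz
    have hpg : IsPGroup r (zpowers z) := by
      apply isPGroup_of_pow
      rintro _ ⟨k, rfl⟩
      refine ⟨1, ?_⟩
      show (z ^ k) ^ r ^ 1 = 1
      rw [pow_one, ← zpow_natCast, ← zpow_mul, mul_comm, zpow_mul, zpow_natCast, hz, one_zpow]
    obtain ⟨R', hR'⟩ := hpg.exists_le_sylow
    have : R' = R := Subsingleton.elim _ _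
    rw [← this]
    exact hR' (mem_zpowers z)
  have hunique : ∀ z ∈ H, z ^ r = 1 → z ∈ zpowers c := by
    intro z hz hzr
    have h1 : (⟨z, hz⟩ : H) ^ r = 1 := Subtype.ext (by simpa using hzr)
    have h2 : c' ^ r = 1 := by rw [← hc']; exact pow_orderOf_eq_one c'
    have h3 := Cfsg.Agent.Lib.CyclicSylow.Basic.mem_zpowers_of_pow_eq_one hRc (hinR c' h2) hc'
      (hinR _ h1) h1
    obtain ⟨k, hk⟩ := h3
    refine ⟨k, ?_⟩
    have := congrArg Subtype.val hk
    simpa using this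
  -- involutions of `K` invert `c`
  have hinv : ∀ u ∈ K, u * u = 1 → u ≠ 1 → u * c * u⁻¹ = c⁻¹ := by
    intro u huK huu hu1
    have hv : u * c * u⁻¹ ∈ H := (mem_normalizer_iff.1 (hKN huK) c).1 hcH
    have hvr : (u * c * u⁻¹) ^ r = 1 := by
      have : (u * c * u⁻¹) ^ r = u * c ^ r * u⁻¹ := by simp
      rw [this, hcpow]
      simp
    have hvz := hunique _ hv hvr
    obtain ⟨k, hk⟩ := hvz
    have hk' : c ^ k = u * c * u⁻¹ := hk
    have hcv : Commute c (u * c * u⁻¹) := by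
      rw [← hk']
      exact (Commute.refl c).zpow_right k
    have huinv : u⁻¹ = u := by
      rw [inv_eq_iff_mul_eq_one]; exact huu
    have hw : (c * (u * c * u⁻¹)) * u = u * (c * (u * c * u⁻¹)) := by
      have h1 : u * (c * (u * c * u⁻¹)) * u⁻¹ = (u * c * u⁻¹) * c := by
        calc u * (c * (u * c * u⁻¹)) * u⁻¹ = (u * c * u⁻¹) * (u * u) * c * (u⁻¹ * u⁻¹) := by group
          _ = (u * c * u⁻¹) * c := by
            rw [huinv, huu]
            group
      have h2 : u * (c * (u * c * u⁻¹)) * u⁻¹ = c * (u * c * u⁻¹) := by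
        rw [h1]; exact hcv.eq.symm
      calc (c * (u * c * u⁻¹)) * u = (u * (c * (u * c * u⁻¹)) * u⁻¹) * u := by rw [h2]
        _ = _ := by group
    have hww := hF1 u _ hu1 huu hw
    have hwr : (c * (u * c * u⁻¹)) ^ r = 1 := by
      rw [hcv.mul_pow, hcpow, hvr, one_mul]
    have hd1 := orderOf_dvd_of_pow_eq_one hwr
    have hd2 : orderOf (c * (u * c * u⁻¹)) ∣ 2 := by
      apply orderOf_dvd_of_pow_eq_one
      rw [pow_two]; exact hww
    have hd3 := Nat.dvd_gcd hd1 hd2
    rw [hrodd] at hd3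
    have hw1 := orderOf_eq_one_iff.1 (Nat.dvd_one.1 hd3)
    exact eq_inv_of_mul_eq_one_right hw1
  -- a subgroup of order four
  obtain ⟨U', hU'⟩ := Sylow.exists_subgroup_card_pow_prime (G := K) 2 h4K
  set U : Subgroup Γ := U'.map K.subtype with hUdef
  have hUK : U ≤ K := by
    rintro _ ⟨x, _, rfl⟩
    exact x.2
  have hUcard : Nat.card U = 4 := by
    rw [hUdef, Nat.card_congr (Subgroup.equivMapOfInjective U' K.subtype K.subtype_injective).toEquiv.symm, hU']
    norm_num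
  have hUp : IsPGroup 2 U := IsPGroup.of_card (n := 2) (by rw [hUcard]; norm_num)
  obtain ⟨hUs, hUc⟩ := two_group_facts hF1 hUp
  have hUne : U ≠ ⊥ := by
    intro h
    rw [h, card_bot] at hUcard
    omega
  obtain ⟨u₁, hu₁, hu₁o⟩ := exists_of_order hUp hUne
  have hz : zpowers u₁ ≤ U := zpowers_le.2 hu₁
  have hzne : zpowers u₁ ≠ U := by
    intro h
    have h1 := Nat.card_zpowers u₁
    rw [h, hUcard, hu₁o] at h1
    omega
  obtain ⟨u₂, hu₂, hu₂z⟩ : ∃ u₂ ∈ U, u₂ ∉ zpowers u₁ := by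
    by_contra hc
    push Not at hc
    exact hzne (le_antisymm hz hc)
  have hu₁1 : u₁ ≠ 1 := by
    rintro rfl
    rw [orderOf_one] at hu₁o
    omega
  have hu₂1 : u₂ ≠ 1 := by
    rintro rfl
    exact hu₂z (one_mem _)
  have ht1 : u₁ * u₂ ≠ 1 := by
    intro h
    apply hu₂z
    have : u₂ = u₁⁻¹ := eq_inv_of_mul_eq_one_right h
    rw [this]
    exact inv_mem (mem_zpowers u₁)
  have h1 := hinv u₁ (hUK hu₁) (hUs _ hu₁) hu₁1
  have h2 := hinv u₂ (hUK hu₂) (hUs _ hu₂) hu₂1
  have hcomm : c * (u₁ * u₂) = (u₁ * u₂) * c := by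
    have h3 : (u₁ * u₂) * c * (u₁ * u₂)⁻¹ = c := by
      calc (u₁ * u₂) * c * (u₁ * u₂)⁻¹ = u₁ * (u₂ * c * u₂⁻¹) * u₁⁻¹ := by group
        _ = u₁ * c⁻¹ * u₁⁻¹ := by rw [h2]
        _ = (u₁ * c * u₁⁻¹)⁻¹ := by group
        _ = c := by rw [h1]; group
    calc c * (u₁ * u₂) = ((u₁ * u₂) * c * (u₁ * u₂)⁻¹) * (u₁ * u₂) := by rw [h3]
      _ = _ := by group
  have hcc := hF1 _ c ht1 (hUs _ (U.mul_mem hu₁ hu₂)) hcomm
  have hd : orderOf c ∣ 2 := orderOf_dvd_of_pow_eq_one (by rw [pow_two]; exact hcc)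
  rw [hco] at hd
  have := Nat.le_of_dvd (by norm_num) hd
  omega

end Borel

/-- If a maximal subgroup has `SN`, there is no counterexample inside it. -/
theorem sn_inside {Γ : Type*} [Group Γ] {H : Subgroup Γ} {g : Γ}
    (hH : ∃ a ∈ H, ∃ b ∈ H, a * b ≠ b * a) (hg : g ∈ normalizer (H : Set Γ)) (hgH : g ∉ H)
    {M : Subgroup Γ} (hM : normalizer (H : Set Γ) ≤ M) (hS : SN M) : False := by
  have hHM : H ≤ M := le_normalizer.trans hM
  obtain ⟨a, ha, b, hb, hab⟩ := hH
  have h1 := hS (H.subgroupOf M) ⟨⟨a, hHM ha⟩, ha, ⟨b, hHM hb⟩, hb, fun h =>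
    hab (congrArg Subtype.val h)⟩ ⟨g, hM hg⟩ (by
      rw [mem_normalizer_iff]
      intro x
      have := mem_normalizer_iff.1 hg x
      exact this)
  exact hgH h1

/-- **The backward direction.** -/
theorem backward {n : ℕ} (hn : 2 ≤ n) (hp : (2 ^ n - 1).Prime)
    [IsSimpleGroup (Matrix.ProjectiveSpecialLinearGroup (Fin 2) (GaloisField 2 n))] :
    SN (Matrix.ProjectiveSpecialLinearGroup (Fin 2) (GaloisField 2 n)) := by
  classical
  haveI hf2 : Fact (Nat.Prime 2) := ⟨Nat.prime_two⟩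
  letI : Fintype (GaloisField 2 n) := Fintype.ofFinite _
  have hcardF : Fintype.card (GaloisField 2 n) = 2 ^ n := by
    rw [← Nat.card_eq_fintype_card]
    exact GaloisField.card 2 n (by omega)
  have h20 : (2 : GaloisField 2 n) = 0 := by
    exact_mod_cast CharP.cast_eq_zero (GaloisField 2 n) 2
  obtain ⟨e₂⟩ := Cfsg.Agent.Lib.TICent.Invol.sl_equiv_psl h20
  have hF1 : ∀ t g : Matrix.ProjectiveSpecialLinearGroup (Fin 2) (GaloisField 2 n),
      t ≠ 1 → t * t = 1 → g * t = t * g → g * g = 1 := by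
    intro t g ht htt hc
    have h1 : e₂.symm t ≠ 1 := by
      intro h
      exact ht (by simpa using congrArg e₂ h)
    have h2 : e₂.symm t * e₂.symm t = 1 := by
      rw [← map_mul, htt, map_one]
    have h3 : e₂.symm g * e₂.symm t = e₂.symm t * e₂.symm g := by
      rw [← map_mul, hc, map_mul]
    have h4 := sl_F1 h20 h1 h2 h3
    have h5 := congrArg e₂ h4
    simpa using h5
  have hq4 : 4 ≤ 2 ^ n := by
    calc 4 = 2 ^ 2 := by norm_num
      _ ≤ 2 ^ n := Nat.pow_le_pow_right (by norm_num) hn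
  have hodd : ∀ k : ℕ, 2 ^ n = k + 1 → Odd k := by
    intro k hk
    have h2 : 2 ∣ 2 ^ n := dvd_pow_self 2 (by omega)
    rw [hk] at h2
    rw [← Nat.not_even_iff_odd]
    intro hev
    have := even_iff_two_dvd.1 hev
    omega
  have hoddq : Odd (2 ^ n + 1) := by
    have h2 : 2 ∣ 2 ^ n := dvd_pow_self 2 (by omega)
    rw [← Nat.not_even_iff_odd]
    intro hev
    have := even_iff_two_dvd.1 hev
    omega
  intro H hH g hg
  by_contra hgH
  have hKt : normalizer (H : Set (Matrix.ProjectiveSpecialLinearGroup (Fin 2) (GaloisField 2 n))) ≠ ⊤ := by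
    intro ht
    have hnorm : H.Normal := normalizer_eq_top_iff.1 ht
    rcases hnorm.eq_bot_or_eq_top with h | h
    · obtain ⟨a, ha, b, hb, hab⟩ := hH
      rw [h] at ha hb
      rw [(mem_bot).1 ha, (mem_bot).1 hb] at hab
      exact hab rfl
    · rw [h] at hgH
      exact hgH trivial
  obtain ⟨M, hM, hKM⟩ := (eq_top_or_exists_le_coatom _).resolve_left hKt
  have hHK : H < normalizer (H : Set (Matrix.ProjectiveSpecialLinearGroup (Fin 2) (GaloisField 2 n))) :=
    lt_of_le_of_ne le_normalizer (fun h => hgH (by rw [h]; exact hg))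
  have heven : Even (Fintype.card (GaloisField 2 n)) := by
    rw [hcardF, even_iff_two_dvd]
    exact dvd_pow_self 2 (by omega)
  rcases Cfsg.Agent.S5893.result heven (by rw [hcardF]; exact hq4) M hM with h1 | ⟨⟨e⟩⟩ | ⟨⟨e⟩⟩ |
      ⟨F₀, _, _, r, hr, hF₀, hcF₀, _⟩
  · refine borel_contra hF1 hHK le_rfl hH hn rfl hp ?_
    rw [hcardF] at h1
    rw [← h1]
    exact Subgroup.card_dvd_of_le hKM
  · refine sn_inside hH hg hgH hKM ((sn_dihedral ?_).of_equiv e)
    rw [hcardF]
    exact hodd _ (by omega)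
  · refine sn_inside hH hg hgH hKM ((sn_dihedral ?_).of_equiv e)
    rw [hcardF]
    exact hoddq
  · -- the subfield case is impossible
    exfalso
    have hnp : n.Prime := (Nat.prime_of_pow_sub_one_prime (by omega) hp).2
    rw [hcardF] at hcF₀
    have hd : Fintype.card F₀ ∣ 2 ^ n := by
      rw [hcF₀]
      exact dvd_pow_self _ hr.ne_zero
    obtain ⟨d, _, hd'⟩ := (Nat.dvd_prime_pow Nat.prime_two).1 hd
    rw [hd', ← pow_mul] at hcF₀
    have hnd : n = d * r := Nat.pow_right_injective (le_refl 2) hcF₀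
    have hrn : r ∣ n := ⟨d, by rw [hnd]; ring⟩
    have hreq : r = n := ((Nat.dvd_prime hnp).1 hrn).resolve_left hr.one_lt.ne'
    have hd1 : d = 1 := by
      rw [hreq] at hnd
      have : n * 1 = n * d := by rw [mul_one, mul_comm]; exact hnd
      exact (Nat.eq_of_mul_eq_mul_left hnp.pos this).symm
    apply hF₀
    rw [hd', hd1, pow_one]

end Cfsg.Agent.Lib.SelfNorm
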